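import Groth.Agent.MeroTotal.RegularSection

/-!
# Regular meromorphic sections with prescribed values at the weakly associated points
-/

set_option linter.style.haveILetI false

universe u

open CategoryTheory AlgebraicGeometry TopologicalSpace

namespace Groth.Agent.MeroDivMod

open _root_.Mero Groth.Agent.PullStalk.Sky Groth.Agent.MeroTotal.RegularSection

variable {X : Scheme.{u}} {L : X.Modules}

/-- Sections given locally by fractions with prescribed values at the weakly associated points. -/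
theorem hasRegularMero_of_values (ε : ∀ z : X, L.presheaf.stalk z)
    (hloc : ∀ x : X, ∃ (V : X.affineOpens) (_ : x ∈ V.1) (e : Γ(L, V.1)),
      Props.GenLocus.IsGen L V.1 e ∧ ∃ a S : Γ(X, V.1),
      ∀ (z : X) (hz : z ∈ V.1), Curv2.IsWeakAssPoint (Coh.structureModule X) z →
        IsUnit (X.presheaf.germ V.1 z hz a) ∧ IsUnit (X.presheaf.germ V.1 z hz S) ∧
          X.presheaf.germ V.1 z hz S • ε z =
            X.presheaf.germ V.1 z hz a • germM L V.1 z hz e) :
    HasRegularMero L := by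
  choose V hxV e he a S hval using hloc
  have hS : ∀ x, S x ∈ regSub X (V x).1 := fun x y =>
    WeakAssSch.germ_mem_nonZeroDivisors_of_isUnit (S x) (fun z hz hw => (hval x z hz hw).2.1) y.1 y.2
  let v : ∀ (x y : X), y ∈ (V x).1 → MStalk L y := fun x y hy =>
    LocalizedModule.mk (X.presheaf.germ (V x).1 y hy (a x) • germM L (V x).1 y hy (e x))
      (regGerm ⟨y, hy⟩ ⟨S x, hS x⟩)
  have hagree : ∀ (x x' y : X) (hy : y ∈ (V x).1) (hy' : y ∈ (V x').1), v x y hy = v x' y hy' := by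
    intro x x' y hy hy'
    obtain ⟨c, hc, -⟩ := (he x).exists_eq (inf_le_left : ((V x).1 ⊓ (V x').1) ≤ (V x).1)
      (QCoh.res L (inf_le_right : ((V x).1 ⊓ (V x').1) ≤ (V x').1) (e x'))
    set aW := X.presheaf.map (homOfLE (inf_le_left : ((V x).1 ⊓ (V x').1) ≤ (V x).1)).op (a x)
    set aV := X.presheaf.map (homOfLE (inf_le_right : ((V x).1 ⊓ (V x').1) ≤ (V x').1)).op (a x')
    set SW := X.presheaf.map (homOfLE (inf_le_left : ((V x).1 ⊓ (V x').1) ≤ (V x).1)).op (S x)
    set SV := X.presheaf.map (homOfLE (inf_le_right : ((V x).1 ⊓ (V x').1) ≤ (V x').1)).op (S x')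
    have hcg : ∀ (z : X) (hz : z ∈ ((V x).1 ⊓ (V x').1)), germM L (V x').1 z hz.2 (e x') =
        X.presheaf.germ ((V x).1 ⊓ (V x').1) z hz c • germM L (V x).1 z hz.1 (e x) := by
      intro z hz
      have h1 := congrArg (germM L ((V x).1 ⊓ (V x').1) z hz) hc
      rw [germM_smul] at h1
      exact (L.presheaf.germ_res_apply _ z hz _).symm.trans (h1.trans
        (congrArg _ (L.presheaf.germ_res_apply _ z hz _)))
    have h0 : ∀ (z : X) (hz : z ∈ ((V x).1 ⊓ (V x').1)), Curv2.IsWeakAssPoint (Coh.structureModule X) z →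
        X.presheaf.germ ((V x).1 ⊓ (V x').1) z hz (SV * aW - SW * (aV * c)) = 0 := by
      intro z hz hw
      obtain ⟨-, -, e1⟩ := hval x z hz.1 hw
      obtain ⟨-, -, e2⟩ := hval x' z hz.2 hw
      rw [hcg z hz] at e2
      rw [map_sub, sub_eq_zero]
      refine (bijective_smul_germ (he x) z hz.1).1 ?_
      simp only [map_mul, SW, SV, aW, aV, TopCat.Presheaf.germ_res_apply]
      rw [mul_smul, ← e1, mul_smul, mul_smul, ← e2, smul_comm]
    have h1 := germ_eq_zero _ h0 y ⟨hy, hy'⟩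
    simp only [map_sub, map_mul, sub_eq_zero, SW, SV, aW, aV] at h1
    have hy2 : y ∈ (V x).1 ⊓ (V x').1 := ⟨hy, hy'⟩
    have r1 : ∀ t : Γ(X, (V x).1), X.presheaf.germ _ y hy2
        (X.presheaf.map (homOfLE (inf_le_left : (V x).1 ⊓ (V x').1 ≤ (V x).1)).op t) =
        X.presheaf.germ (V x).1 y hy t := fun t => X.presheaf.germ_res_apply _ y hy2 t
    have r2 : ∀ t : Γ(X, (V x').1), X.presheaf.germ _ y hy2
        (X.presheaf.map (homOfLE (inf_le_right : (V x).1 ⊓ (V x').1 ≤ (V x').1)).op t) =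
        X.presheaf.germ (V x').1 y hy' t := fun t => X.presheaf.germ_res_apply _ y hy2 t
    erw [r1, r1, r2, r2] at h1
    refine LocalizedModule.mk_eq.mpr ⟨1, ?_⟩
    simp only [one_smul, Submonoid.smul_def, regGerm, hcg y ⟨hy, hy'⟩, smul_smul]
    congr 1
  refine ⟨⟨fun y => v y.1 y.1 (hxV y.1), fun x => ⟨(V x.1).1, hxV x.1, homOfLE le_top,
    a x.1 • e x.1, ⟨S x.1, hS x.1⟩, fun y => ?_⟩⟩, fun y q hq => ?_⟩
  · change v y.1 y.1 (hxV y.1) = _
    rw [hagree y.1 x.1 y.1 (hxV y.1) y.2]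
    exact mk_congr (germM_smul L _ y.1 y.2 _ _).symm rfl
  · induction q using Localization.induction_on with
    | H p =>
      obtain ⟨r, t⟩ := p
      change (Localization.mk r t : KStalk X y) • v y y (hxV y) = 0 at hq
      rw [LocalizedModule.mk_smul_mk] at hq
      obtain ⟨c, hc⟩ := LocalizedModule.mk_eq.mp (hq.trans (LocalizedModule.zero_mk 1).symm)
      simp only [one_smul, smul_zero, Submonoid.smul_def, smul_smul] at hc
      refine (Groth.Agent.Mero.mk_eq_zero_iff r t).mpr ?_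
      have h1 := (bijective_smul_germ (he y) y (hxV y)).1
        (hc.trans (zero_smul (X.presheaf.stalk y) _).symm)
      have hau := WeakAssSch.germ_mem_nonZeroDivisors_of_isUnit (a y)
        (fun z hz hw => (hval y z hz hw).1) y (hxV y)
      exact (mem_nonZeroDivisors_iff_right.mp hau) r
        (mem_nonZeroDivisors_iff_left.mp (regStalk_le_nonZeroDivisors y c.2) _
          h1)

/-- A function on part of an affine open as a fraction, when that part contains the weakly associated points. -/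
theorem exists_denominator_of_open {V : X.Opens} (hV : IsAffineOpen V)
    (hfin : {z : X | z ∈ V ∧ Curv2.IsWeakAssPoint (Coh.structureModule X) z}.Finite)
    (W : X.Opens) (hW : ∀ z ∈ V, Curv2.IsWeakAssPoint (Coh.structureModule X) z → z ∈ W)
    (c : Γ(X, V ⊓ W)) :
    ∃ a S : Γ(X, V), ∀ (z : X) (hz : z ∈ V) (hw : Curv2.IsWeakAssPoint (Coh.structureModule X) z),
      IsUnit (X.presheaf.germ V z hz S) ∧
        X.presheaf.germ V z hz S * X.presheaf.germ (V ⊓ W) z ⟨hz, hW z hz hw⟩ c =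
          X.presheaf.germ V z hz a := by
  classical
  set P := hfin.toFinset
  have hP : ∀ z : P, z.1 ∈ V := fun z => (hfin.mem_toFinset.mp z.2).1
  have hPW : ∀ z : P, z.1 ∈ W := fun z => hW _ (hP z) (hfin.mem_toFinset.mp z.2).2
  choose g hzg hgle using fun z : P =>
    hV.exists_basicOpen_le (V := V ⊓ W) ⟨z.1, ⟨hP z, hPW z⟩⟩ (hP z)
  let p : P → Ideal Γ(X, V) := fun z => (hV.primeIdealOf ⟨z.1, hP z⟩).asIdeal
  have hunit : ∀ (y : X) (hy : y ∈ V) (r : Γ(X, V)),
      r ∉ (hV.primeIdealOf ⟨y, hy⟩).asIdeal ↔ IsUnit (X.presheaf.germ V y hy r) := by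
    intro y hy r
    let := X.presheaf.algebra_section_stalk ⟨y, hy⟩
    have : IsLocalization.AtPrime (X.presheaf.stalk y) (hV.primeIdealOf ⟨y, hy⟩).asIdeal :=
      hV.isLocalization_stalk ⟨y, hy⟩
    exact (IsLocalization.AtPrime.isUnit_to_map_iff (X.presheaf.stalk y) _ r).symm
  obtain ⟨b, hbJ, hb⟩ : ∃ b ∈ Ideal.span (Set.range g), ∀ z, b ∉ p z := by
    by_contra hcon
    push Not at hcon
    by_cases hne : Nonempty P
    · obtain ⟨z₀⟩ := hne
      obtain ⟨z, -, hle⟩ := (Ideal.subset_union_prime (s := Finset.univ) (f := p) z₀ z₀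
        (fun i _ _ _ => (hV.primeIdealOf _).isPrime)).mp (fun b hb => by
          obtain ⟨z, hz⟩ := hcon b hb
          simp only [Finset.coe_univ, Set.mem_univ, Set.iUnion_true, Set.mem_iUnion]
          exact ⟨z, hz⟩)
      exact (hunit z.1 (hP z) (g z)).mpr ((Scheme.mem_basicOpen _ _ _ (hP z)).mp (hgle z))
        (hle (Ideal.subset_span ⟨z, rfl⟩))
    · obtain ⟨z, -⟩ := hcon 0 (zero_mem _)
      exact hne ⟨z⟩
  have hbW : X.basicOpen b ≤ V ⊓ W := fun y hy => by
    have hyV := X.basicOpen_le b hy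
    by_contra hyW
    refine (hunit y hyV b).mpr ((Scheme.mem_basicOpen _ _ y hyV).mp hy) (Ideal.span_le.mpr ?_ hbJ)
    rintro _ ⟨z, rfl⟩
    by_contra hz
    exact hyW (hzg z ((Scheme.mem_basicOpen _ _ y hyV).mpr ((hunit y hyV (g z)).mp hz)))
  let := hV.isLocalization_basicOpen b
  let : Algebra Γ(X, V) Γ(X, X.basicOpen b) := (X.presheaf.map (homOfLE (X.basicOpen_le b)).op).hom.toAlgebra
  obtain ⟨n, a, ha⟩ := IsLocalization.Away.surj b (X.presheaf.map (homOfLE hbW).op c)
  refine ⟨a, b ^ n, fun z hz hw => ?_⟩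
  have hbu : IsUnit (X.presheaf.germ V z hz b) :=
    (hunit z hz b).mp (hb ⟨z, hfin.mem_toFinset.mpr ⟨hz, hw⟩⟩)
  have hzb : z ∈ X.basicOpen b := (Scheme.mem_basicOpen _ _ z hz).mpr hbu
  have e := congrArg (X.presheaf.germ (X.basicOpen b) z hzb) ha
  simp only [RingHom.algebraMap_toAlgebra, map_mul, map_pow, TopCat.Presheaf.germ_res_apply] at e
  rw [map_pow]
  exact ⟨hbu.pow n, (mul_comm _ _).trans e⟩

/-- The same, with a unit numerator. -/
theorem exists_fraction_of_open {V : X.Opens} (hV : IsAffineOpen V)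
    (hfin : {z : X | z ∈ V ∧ Curv2.IsWeakAssPoint (Coh.structureModule X) z}.Finite)
    (W : X.Opens) (hW : ∀ z ∈ V, Curv2.IsWeakAssPoint (Coh.structureModule X) z → z ∈ W)
    (c : Γ(X, V ⊓ W))
    (hc : ∀ (z : X) (hz : z ∈ V ⊓ W), Curv2.IsWeakAssPoint (Coh.structureModule X) z →
      IsUnit (X.presheaf.germ (V ⊓ W) z hz c)) :
    ∃ a S : Γ(X, V), ∀ (z : X) (hz : z ∈ V) (hw : Curv2.IsWeakAssPoint (Coh.structureModule X) z),
      IsUnit (X.presheaf.germ V z hz a) ∧ IsUnit (X.presheaf.germ V z hz S) ∧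
        X.presheaf.germ V z hz S * X.presheaf.germ (V ⊓ W) z ⟨hz, hW z hz hw⟩ c =
          X.presheaf.germ V z hz a := by
  obtain ⟨a, S, h⟩ := exists_denominator_of_open hV hfin W hW c
  refine ⟨a, S, fun z hz hw => ⟨?_, (h z hz hw).1, (h z hz hw).2⟩⟩
  rw [← (h z hz hw).2]
  exact (h z hz hw).1.mul (hc z ⟨hz, hW z hz hw⟩ hw)

end Groth.Agent.MeroDivMod
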