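import Groth.Agent.MeroTotal.RegularSection
import Groth.Agent.LFFrame.Basic
import Groth.Agent.Omega.Stalks

/-!
# The module of a divisor
-/

set_option linter.style.haveILetI false

universe u

open CategoryTheory AlgebraicGeometry TopologicalSpace Opposite

namespace Groth.Agent.MeroDivMod

open _root_.Mero Groth.Agent.PullStalk.Sky

variable {X : Scheme.{u}}

/-- Restriction of meromorphic functions. -/
noncomputable def kres {U V : X.Opens} (h : V ≤ U) : Γ(kmod X, U) →+* Γ(kmod X, V) :=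
  ((kring X).obj.map (homOfLE h).op).hom

@[simp] theorem kres_apply {U V : X.Opens} (h : V ≤ U) (f : Γ(kmod X, U)) (y : V) :
    (kres h f).1 y = f.1 ⟨y.1, h y.2⟩ := rfl

theorem kext {U : X.Opens} {f g : Γ(kmod X, U)} (h : ∀ y : U, f.1 y = g.1 y) : f = g :=
  Subtype.ext (funext h)

@[simp] theorem evalK_apply {U : X.Opens} (f : Γ(kmod X, U)) (y : U) : evalK X U y f = f.1 y := rfl

/-- A regular section is a unit of `K_X`. -/
theorem isUnit_toK_of_mem {U : X.Opens} {a : Γ(X, U)} (ha : a ∈ regSub X U) :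
    IsUnit (toK X U a) := by
  refine IsUnit.of_mul_eq_one (⟨fun y => LocalizedModule.mk 1 (regGerm y ⟨a, ha⟩),
    fun x => ⟨U, x.2, 𝟙 _, 1, ⟨a, ha⟩, fun y => mk_congr (map_one _).symm rfl⟩⟩ :
      Γ(kmod X, U)) (kext fun y => ?_)
  change LocalizedModule.mk (X.presheaf.germ U y.1 y.2 a) 1 *
    LocalizedModule.mk 1 (regGerm y ⟨a, ha⟩) = (1 : KStalk X y.1)
  refine LocalizedModule.mk_mul_mk.trans ?_
  exact (mk_congr (mul_one _) (one_mul _)).trans (mk_self_eq_one (regGerm y ⟨a, ha⟩))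

/-- The quotient of two regular sections. -/
noncomputable def quot {U : X.Opens} (a b : regSub X U) : Γ(kmod X, U)ˣ :=
  (isUnit_toK_of_mem a.2).unit * (isUnit_toK_of_mem b.2).unit⁻¹

theorem quot_apply {U : X.Opens} (a b : regSub X U) (y : U) :
    (quot a b : Γ(kmod X, U)).1 y = LocalizedModule.mk (X.presheaf.germ U y.1 y.2 a.1) (regGerm y b) := by
  have h : toK X U b.1 * (quot a b : Γ(kmod X, U)) = toK X U a.1 := by
    rw [quot, Units.val_mul, IsUnit.unit_spec, mul_left_comm, IsUnit.mul_val_inv, mul_one]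
  have e := congrFun (congrArg Subtype.val h) y
  rw [kmod_mul_apply, toK_apply, toK_apply] at e
  generalize (quot a b : Γ(kmod X, U)).1 y = q at e ⊢
  induction q using LocalizedModule.induction_on with
  | h r t =>
    rw [show (LocalizedModule.mk (X.presheaf.germ U y.1 y.2 b.1) 1 : KStalk X y.1) * LocalizedModule.mk r t =
      LocalizedModule.mk (X.presheaf.germ U y.1 y.2 b.1 * r) (1 * t) from LocalizedModule.mk_mul_mk,
      Groth.Agent.Mero.mk_eq_mk_iff] at e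
    rw [Groth.Agent.Mero.mk_eq_mk_iff]
    simpa [regGerm] using e

/-- A unit of `K_X` is locally a quotient of two regular sections. -/
theorem exists_regular_fraction {U : X.Opens} (f : Γ(kmod X, U)ˣ) (x : X) (hx : x ∈ U) :
    ∃ (V : X.affineOpens) (_ : x ∈ V.1) (hV : V.1 ≤ U) (a b : regSub X V.1),
      ∀ y : V.1, (f : Γ(kmod X, U)).1 ⟨y.1, hV y.2⟩ =
        LocalizedModule.mk (X.presheaf.germ V.1 y.1 y.2 a.1) (regGerm y b) := by
  obtain ⟨V, hxV, hV, a, b, w⟩ := Groth.Agent.Mero.exists_fraction (f : Γ(kmod X, U)) x hx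
  refine ⟨V, hxV, hV, ⟨a, fun y => ?_⟩, b, w⟩
  refine mem_nonZeroDivisors_iff_right.mpr fun r hr => ?_
  have h1 : algebraMap (X.presheaf.stalk y.1) (KStalk X y.1) r * (f : Γ(kmod X, U)).1 ⟨y.1, hV y.2⟩ = 0 := by
    rw [w y, Groth.Agent.Mero.algebraMap_eq_mk]
    refine LocalizedModule.mk_mul_mk.trans ?_
    rw [hr]
    exact LocalizedModule.zero_mk _
  have h2 := congrArg (· * (↑f⁻¹ : Γ(kmod X, U)).1 ⟨y.1, hV y.2⟩) h1
  simp only [zero_mul, mul_assoc, ← kmod_mul_apply, f.mul_inv, kmod_one_apply, mul_one] at h2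
  exact algebraMap_KStalk_injective y.1 (h2.trans (map_zero _).symm)

/-- Representatives of the germs of a divisor. -/
theorem exists_local (D : Divisor X) (x : X) :
    ∃ (U : X.Opens) (_ : x ∈ U) (f : Γ(kmod X, U)ˣ), ∀ y : U, D.1 y.1 = germOf f y := D.2 x

theorem divCond_iff (D : Divisor X) {U : X.Opens} (f : Γ(kmod X, U)ˣ) (y : U)
    (hf : D.1 y.1 = germOf f y) (t : KStalk X y.1) :
    DivCond D y.1 t ↔
      t * (f : Γ(kmod X, U)).1 y ∈ (algebraMap (X.presheaf.stalk y.1) (KStalk X y.1)).range := by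
  refine ⟨fun h => h _ hf, fun h g hg => ?_⟩
  obtain ⟨v, hv⟩ := QuotientGroup.eq.mp (hf.symm.trans hg)
  have hg' : g = Units.map (evalK X U y).toMonoidHom f *
      Units.map (algebraMap (X.presheaf.stalk y.1) (KStalk X y.1)).toMonoidHom v := by
    rw [hv, mul_inv_cancel_left]
  rw [hg', Units.val_mul, ← mul_assoc]
  exact mul_mem h ⟨v, rfl⟩

/-- The generator `f⁻¹` of `O_X(D)`. -/
noncomputable def gen (D : Divisor X) {U : X.Opens} (f : Γ(kmod X, U)ˣ)
    (hf : ∀ y : U, D.1 y.1 = germOf f y) : Γ(divMod D, U) :=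
  ⟨(↑f⁻¹ : Γ(kmod X, U)).1, (↑f⁻¹ : Γ(kmod X, U)).2, fun y =>
    (divCond_iff D f y (hf y) _).mpr ⟨1, by rw [map_one, ← kmod_mul_apply, f.inv_mul]; rfl⟩⟩

theorem gen_apply (D : Divisor X) {U : X.Opens} (f : Γ(kmod X, U)ˣ)
    (hf : ∀ y : U, D.1 y.1 = germOf f y) (y : U) :
    (gen D f hf).1 y = (↑f⁻¹ : Γ(kmod X, U)).1 y := rfl

/-- A section of `O_X(D)` as a meromorphic function. -/
noncomputable def incl {D : Divisor X} {V : X.Opens} (t : Γ(divMod D, V)) : Γ(kmod X, V) :=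
  ⟨t.1, t.2.1⟩

@[simp] theorem incl_apply {D : Divisor X} {V : X.Opens} (t : Γ(divMod D, V)) (y : V) :
    (incl t).1 y = t.1 y := rfl

theorem smul_res_gen_apply (D : Divisor X) {U : X.Opens} (f : Γ(kmod X, U)ˣ)
    (hf : ∀ y : U, D.1 y.1 = germOf f y) {V : X.Opens} (h : V ≤ U) (c : Γ(X, V)) (y : V) :
    (c • QCoh.res (divMod D) h (gen D f hf)).1 y =
      algebraMap _ (KStalk X y.1) (X.presheaf.germ V y.1 y.2 c) *
        (↑f⁻¹ : Γ(kmod X, U)).1 ⟨y.1, h y.2⟩ := by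
  refine Eq.trans ?_ (Algebra.smul_def _ _)
  rfl

theorem isGen_gen (D : Divisor X) {U : X.Opens} (f : Γ(kmod X, U)ˣ)
    (hf : ∀ y : U, D.1 y.1 = germOf f y) : Props.GenLocus.IsGen (divMod D) U (gen D f hf) := by
  intro V h
  have hinv : ∀ y : V, (↑f⁻¹ : Γ(kmod X, U)).1 ⟨y.1, h y.2⟩ * (f : Γ(kmod X, U)).1 ⟨y.1, h y.2⟩ = 1 :=
    fun y => by rw [← kmod_mul_apply, f.inv_mul]; rfl
  constructor
  · intro a b hab
    refine TopCat.Presheaf.section_ext X.sheaf _ _ _ fun y hy => ?_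
    have e := congrArg (fun s : Γ(divMod D, V) => s.1 ⟨y, hy⟩ * (f : Γ(kmod X, U)).1 ⟨y, h hy⟩) hab
    simp only [Props.GenLocus.sm, smul_res_gen_apply, mul_assoc, hinv ⟨y, hy⟩, mul_one] at e
    exact algebraMap_KStalk_injective y e
  · intro t
    let t' : Γ(kmod X, V) := incl t * kres h (f : Γ(kmod X, U))
    obtain ⟨c, hc⟩ := MeroTotal.exists_section_of_defDomain t' V le_rfl fun y hy =>
      ⟨hy, (divCond_iff D f ⟨y, h hy⟩ (hf _) _).mp (t.2.2 ⟨y, hy⟩)⟩
    refine ⟨c, Subtype.ext (funext fun y => ?_)⟩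
    rw [Props.GenLocus.sm, smul_res_gen_apply, Groth.Agent.Mero.algebraMap_eq_mk, ← hc y.1 y.2]
    change t.1 y * (f : Γ(kmod X, U)).1 ⟨y.1, h y.2⟩ * _ = t.1 y
    rw [mul_assoc, ← kmod_mul_apply, f.mul_inv]
    exact mul_one _

theorem isInvertible (D : Divisor X) : PicF.IsInvertible (divMod D) := fun x => by
  obtain ⟨U, hx, f, hf⟩ := exists_local D x
  exact ⟨U, hx, LFFrame.IsFrame.nonempty_restrict_iso
    ((Props.GenLocus.isGen_iff_isFrame _).mp (isGen_gen D f hf))⟩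

end Groth.Agent.MeroDivMod
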