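import Groth.Agent.MeroDivMod.Basic
import Groth.Agent.Depth.Basic
import Groth.Agent.Depth.Local

/-!
# Divisors and points of depth one
-/

set_option linter.style.haveILetI false

universe u

open CategoryTheory AlgebraicGeometry TopologicalSpace
open scoped Pointwise

namespace Groth.Agent.MeroDivMod

open _root_.Mero

variable {X : Scheme.{u}}

theorem isEffectiveAt_iff (D : Divisor X) {V : X.Opens} (a b : regSub X V) (y : V)
    (g : (KStalk X y.1)ˣ)
    (hg : (g : KStalk X y.1) = LocalizedModule.mk (X.presheaf.germ V y.1 y.2 a.1) (regGerm y b))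
    (hD : D.1 y.1 = QuotientGroup.mk g) :
    IsEffectiveAt D y.1 ↔ X.presheaf.germ V y.1 y.2 b.1 ∣ X.presheaf.germ V y.1 y.2 a.1 := by
  have ha : X.presheaf.germ V y.1 y.2 a.1 ∈ regStalk X y.1 := germ_mem_regStalk y a.2
  constructor
  · rintro ⟨c, hc⟩
    obtain ⟨v, hv⟩ := MonoidHom.mem_range.mp (QuotientGroup.eq.mp (hc.symm.trans hD))
    have e : (g : KStalk X y.1) = algebraMap _ _ (c : X.presheaf.stalk y.1) * algebraMap _ _ (v : X.presheaf.stalk y.1) := by
      rw [show algebraMap _ (KStalk X y.1) (c : X.presheaf.stalk y.1) =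
        ((IsLocalization.map_units (KStalk X y.1) c).unit : KStalk X y.1) from (IsUnit.unit_spec _).symm]
      have := congrArg (fun u : (KStalk X y.1)ˣ => ((IsLocalization.map_units (KStalk X y.1) c).unit * u : (KStalk X y.1)ˣ)) hv
      simp only [mul_inv_cancel_left] at this
      rw [← this]
      rfl
    rw [hg, ← map_mul, Groth.Agent.Mero.algebraMap_eq_mk, Groth.Agent.Mero.mk_eq_mk_iff,
      OneMemClass.coe_one, one_mul] at e
    exact ⟨_, e⟩
  · rintro ⟨c, hc⟩
    have hcR : c ∈ nonZeroDivisors (X.presheaf.stalk y.1) := by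
      refine mem_nonZeroDivisors_iff_right.mpr fun r hr => ?_
      refine mem_nonZeroDivisors_iff_right.mp (regStalk_le_nonZeroDivisors y.1 ha) r ?_
      rw [hc, mul_left_comm, hr, mul_zero]
    obtain ⟨W, hyW, c, rfl⟩ := X.presheaf.exists_germ_eq (x := y.1) c
    have hI : y.1 ∈ V ⊓ W := ⟨y.2, hyW⟩
    have h2 : X.presheaf.germ (V ⊓ W) y.1 hI (X.presheaf.map (homOfLE inf_le_left).op a.1) =
        X.presheaf.germ (V ⊓ W) y.1 hI (X.presheaf.map (homOfLE inf_le_left).op b.1 *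
          X.presheaf.map (homOfLE inf_le_right).op c) := by
      rw [map_mul, TopCat.Presheaf.germ_res_apply, TopCat.Presheaf.germ_res_apply,
        TopCat.Presheaf.germ_res_apply]
      exact hc
    obtain ⟨N, hyN, i, j, e⟩ := TopCat.Presheaf.germ_eq _ y.1 hI hI _ _ h2
    have hcN : X.presheaf.map (homOfLE (i.le.trans inf_le_right : N ≤ W)).op c ∈ regSub X N := by
      intro z
      have e2 := congrArg (X.presheaf.germ N z.1 z.2) e
      simp only [TopCat.Presheaf.germ_res_apply, map_mul] at e2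
      rw [TopCat.Presheaf.germ_res_apply]
      refine mem_nonZeroDivisors_iff_right.mpr fun r hr => ?_
      refine mem_nonZeroDivisors_iff_right.mp (a.2 ⟨z.1, (i.le z.2).1⟩) r ?_
      rw [e2, mul_left_comm, hr, mul_zero]
    have hmem : X.presheaf.germ W y.1 hyW c ∈ regStalk X y.1 :=
      ⟨N, hyN, _, hcN, X.presheaf.germ_res_apply _ _ _ _⟩
    refine ⟨⟨_, hmem⟩, hD.trans (congrArg _ (Units.ext ?_))⟩
    rw [hg, IsUnit.unit_spec, Groth.Agent.Mero.algebraMap_eq_mk, Groth.Agent.Mero.mk_eq_mk_iff,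
      OneMemClass.coe_one, one_mul]
    exact hc

theorem eq_one_of_effective (D : Divisor X) (x : X) (h : IsEffectiveAt D x) (h' : IsEffectiveAt D⁻¹ x) :
    D.1 x = 1 := by
  obtain ⟨a, ha⟩ := h
  obtain ⟨b, hb⟩ := h'
  have hb' : (D.1 x)⁻¹ = QuotientGroup.mk (IsLocalization.map_units (KStalk X x) b).unit := hb
  rw [ha, ← QuotientGroup.mk_inv] at hb'
  obtain ⟨v, hv⟩ := MonoidHom.mem_range.mp (QuotientGroup.eq.mp hb')
  rw [inv_inv] at hv
  have e : algebraMap _ (KStalk X x) (v : X.presheaf.stalk x) =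
      algebraMap _ _ ((a : X.presheaf.stalk x) * b) := by
    rw [map_mul]
    have := congrArg (fun u : (KStalk X x)ˣ => (u : KStalk X x)) hv
    simp only [Units.val_mul, IsUnit.unit_spec] at this
    exact this
  have hau : IsUnit (a : X.presheaf.stalk x) :=
    isUnit_of_mul_isUnit_left (algebraMap_KStalk_injective x e ▸ v.isUnit)
  rw [ha, QuotientGroup.eq_one_iff]
  exact MonoidHom.mem_range.mpr ⟨hau.unit, Units.ext rfl⟩

theorem isEffectiveAt_of_eq_one (D : Divisor X) (x : X) (h : D.1 x = 1) : IsEffectiveAt D x :=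
  ⟨1, h.trans ((QuotientGroup.eq_one_iff _).mpr (MonoidHom.mem_range.mpr ⟨1, Units.ext (by simp)⟩)).symm⟩

/-- Where the only regular germs are units, every divisor is trivial. -/
theorem eq_one_of_forall_isUnit (D : Divisor X) (x : X)
    (h : ∀ a ∈ nonZeroDivisors (X.presheaf.stalk x), IsUnit a) : D.1 x = 1 := by
  obtain ⟨U, hx, f, hf⟩ := exists_local D x
  obtain ⟨V, hxV, hV, a, b, w⟩ := exists_regular_fraction f x hx
  have key : ∀ a b : regSub X V.1, ∀ (E : Divisor X) (g : (KStalk X x)ˣ),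
      (g : KStalk X x) = LocalizedModule.mk (X.presheaf.germ V.1 x hxV a.1) (regGerm ⟨x, hxV⟩ b) →
      E.1 x = QuotientGroup.mk g → IsEffectiveAt E x := fun a b E g hg hE =>
    (isEffectiveAt_iff E a b ⟨x, hxV⟩ g hg hE).mpr (h _ (b.2 ⟨x, hxV⟩)).dvd
  refine eq_one_of_effective D x (key a b D _ (w ⟨x, hxV⟩) (hf ⟨x, hV hxV⟩)) ?_
  refine key b a D⁻¹ ((Units.map (evalK X U ⟨x, hV hxV⟩).toMonoidHom f)⁻¹) ?_ ?_
  · refine Units.inv_eq_of_mul_eq_one_right ?_
    change (f : Γ(kmod X, U)).1 ⟨x, hV hxV⟩ * _ = 1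
    rw [w ⟨x, hxV⟩]
    refine LocalizedModule.mk_mul_mk.trans ?_
    rw [← mk_self_eq_one (regGerm ⟨x, hxV⟩ b * regGerm ⟨x, hxV⟩ a), Groth.Agent.Mero.mk_eq_mk_iff]
    simp only [Submonoid.coe_mul, regGerm]
    ring
  · change (D.1 x)⁻¹ = _
    rw [hf ⟨x, hV hxV⟩]
    rfl

/-- A point where effectivity fails, minimal among such, has depth one. -/
theorem depth_eq_one [IsLocallyNoetherian X] (D : Divisor X) (x : X) (hx : ¬ IsEffectiveAt D x)
    (hgen : ∀ y : X, y ⤳ x → y ≠ x → IsEffectiveAt D y) :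
    LocCoh.depth (X.presheaf.stalk x) (X.presheaf.stalk x) = 1 := by
  obtain ⟨U, hxU, f, hf⟩ := exists_local D x
  obtain ⟨V, hxV, hV, a, b, w⟩ := exists_regular_fraction f x hxU
  have hiff : ∀ (y : X) (hy : y ∈ V.1), IsEffectiveAt D y ↔
      X.presheaf.germ V.1 y hy b.1 ∣ X.presheaf.germ V.1 y hy a.1 := fun y hy =>
    isEffectiveAt_iff D a b ⟨y, hy⟩ _ (w ⟨y, hy⟩) (hf ⟨y, hV hy⟩)
  set R := X.presheaf.stalk x
  set α : R := X.presheaf.germ V.1 x hxV a.1
  set β : R := X.presheaf.germ V.1 x hxV b.1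
  have hndvd : ¬ β ∣ α := fun h => hx ((hiff x hxV).mpr h)
  have hβm : β ∈ IsLocalRing.maximalIdeal R :=
    (IsLocalRing.mem_maximalIdeal β).mpr fun hu => hndvd hu.dvd
  have hreg : IsSMulRegular R β :=
    fun r s hrs => (mul_cancel_left_mem_nonZeroDivisors (b.2 ⟨x, hxV⟩)).mp hrs
  rw [Depth.depth_eq_idealDepth, ← Depth.idealDepth_quotSMulTop_add_one hβm hreg]
  have hβtop : ∀ r : R, r ∈ β • (⊤ : Submodule R R) ↔ β ∣ r := fun r => by
    rw [Submodule.mem_smul_pointwise_iff_exists]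
    exact ⟨fun ⟨t, _, ht⟩ => ⟨t, ht.symm⟩, fun ⟨t, ht⟩ => ⟨t, trivial, ht.symm⟩⟩
  have h0 : LocCoh.idealDepth (IsLocalRing.maximalIdeal R) (QuotSMulTop β R) = 0 := by
    refine Depth.idealDepth_eq_zero_iff.mpr ⟨_, ⟨inferInstance,
      Submodule.Quotient.mk α, ?_⟩, le_rfl⟩
    set J := (⊥ : Submodule R (QuotSMulTop β R)).colon {Submodule.Quotient.mk α}
    have hJ : ∀ r, r ∈ J ↔ β ∣ r * α := fun r => by
      rw [Submodule.mem_colon_singleton, Submodule.mem_bot, ← Submodule.Quotient.mk_smul,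
        Submodule.Quotient.mk_eq_zero, hβtop, smul_eq_mul]
    refine le_antisymm ?_ ((Ideal.IsPrime.radical_le_iff inferInstance).mpr
      (IsLocalRing.le_maximalIdeal fun htop => hndvd ?_))
    · rw [Ideal.radical_eq_sInf]
      refine le_sInf fun Q hQ => ?_
      by_contra hQm
      haveI := hQ.2
      letI := X.presheaf.algebra_section_stalk ⟨x, hxV⟩
      haveI hlocx : IsLocalization.AtPrime R (V.2.primeIdealOf ⟨x, hxV⟩).asIdeal :=
        V.2.isLocalization_stalk ⟨x, hxV⟩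
      set p := (V.2.primeIdealOf ⟨x, hxV⟩).asIdeal
      set q := Q.comap (algebraMap Γ(X, V.1) R)
      have hqp : q ≤ p := ((IsLocalization.AtPrime.orderIsoOfPrime R p) ⟨Q, hQ.2⟩).2.2
      obtain ⟨y, hy, hyq⟩ := WeakAssSch.exists_point_of_prime V.2 q
      have hyx : y ⤳ x := by
        have h1 : V.2.primeIdealOf ⟨y, hy⟩ ⤳ V.2.primeIdealOf ⟨x, hxV⟩ :=
          (PrimeSpectrum.le_iff_specializes _ _).mp (hyq.le.trans hqp)
        have h2 := h1.map V.2.fromSpec.continuous
        rwa [V.2.fromSpec_primeIdealOf, V.2.fromSpec_primeIdealOf] at h2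
      have hyne : y ≠ x := by
        rintro rfl
        refine hQm ?_
        intro r hr
        have hQp : q = p := hyq.symm
        obtain ⟨⟨r', t⟩, ht⟩ := IsLocalization.surj p.primeCompl r
        have hr' : r' ∈ q := by
          rw [hQp]
          refine (IsLocalization.AtPrime.to_map_mem_maximal_iff R p r').mp ?_
          rw [← ht]
          exact Ideal.mul_mem_right _ _ hr
        have : r * algebraMap _ R (t : Γ(X, V.1)) ∈ Q := by rw [ht]; exact hr'
        exact (hQ.2.mem_or_mem this).resolve_right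
          fun ht' => t.2 (hqp ht')
      obtain ⟨c, hc⟩ := (hiff y hy).mp (hgen y hyx hyne)
      letI := X.presheaf.algebra_section_stalk ⟨y, hy⟩
      haveI : IsLocalization.AtPrime (X.presheaf.stalk y) (V.2.primeIdealOf ⟨y, hy⟩).asIdeal :=
        V.2.isLocalization_stalk ⟨y, hy⟩
      obtain ⟨⟨r, s⟩, hs⟩ := IsLocalization.surj (V.2.primeIdealOf ⟨y, hy⟩).asIdeal.primeCompl c
      have hs' : c * X.presheaf.germ V.1 y hy (s : Γ(X, V.1)) = X.presheaf.germ V.1 y hy r := hs
      have h1 : algebraMap Γ(X, V.1) (X.presheaf.stalk y) ((s : Γ(X, V.1)) * a.1) =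
          algebraMap Γ(X, V.1) (X.presheaf.stalk y) (b.1 * r) := by
        change X.presheaf.germ V.1 y hy _ = X.presheaf.germ V.1 y hy _
        rw [map_mul, map_mul, hc, ← hs']
        ring
      obtain ⟨t, ht⟩ := (IsLocalization.eq_iff_exists (V.2.primeIdealOf ⟨y, hy⟩).asIdeal.primeCompl _).mp h1
      have htsQ : algebraMap Γ(X, V.1) R ((t : Γ(X, V.1)) * s) ∈ Q := by
        refine hQ.1 ((hJ _).mpr ⟨X.presheaf.germ V.1 x hxV ((t : Γ(X, V.1)) * r), ?_⟩)
        change X.presheaf.germ V.1 x hxV _ * α = _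
        rw [← map_mul, ← map_mul, mul_assoc, ht, mul_left_comm]
      have hts : ((t : Γ(X, V.1)) * s) ∈ q := htsQ
      rw [← hyq] at hts
      exact ((V.2.primeIdealOf ⟨y, hy⟩).isPrime.mem_or_mem hts).elim t.2 s.2
    · have := (hJ 1).mp (htop ▸ Submodule.mem_top)
      rwa [one_mul] at this
  rw [h0, zero_add]

end Groth.Agent.MeroDivMod
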