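import Groth.Agent.MeroDivMod.Basic
import Groth.Agent.Props.GenTensor

/-!
# The multiplication `O(D) ⊗ O(E) ⟶ O(D + E)`
-/

set_option linter.style.haveILetI false

universe u

open CategoryTheory AlgebraicGeometry TopologicalSpace Opposite MonoidalCategory
open scoped TensorProduct

noncomputable section

namespace Groth.Agent.MeroDivMod

open _root_.Mero

variable {X : Scheme.{u}} (D E : Divisor X)

/-- The product of sections of `O(D)` and `O(E)`. -/
def mulSec {V : X.Opens} (t : Γ(divMod D, V)) (t' : Γ(divMod E, V)) : Γ(divMod (D * E), V) :=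
  ⟨(incl t * incl t').1, (incl t * incl t').2, fun y g hg => by
    obtain ⟨g₁, hg₁⟩ := QuotientGroup.mk_surjective (D.1 y.1)
    have hE : E.1 y.1 = QuotientGroup.mk (g₁⁻¹ * g) := by
      rw [QuotientGroup.mk_mul, QuotientGroup.mk_inv, hg₁, ← hg]
      exact (inv_mul_cancel_left _ _).symm
    have h1 := mul_mem (t.2.2 y g₁ hg₁.symm) (t'.2.2 y _ hE)
    change t.1 y * t'.1 y * (g : KStalk X y.1) ∈ _
    have e : t.1 y * t'.1 y * (g : KStalk X y.1) =
        t.1 y * (g₁ : KStalk X y.1) * (t'.1 y * ((g₁⁻¹ * g : (KStalk X y.1)ˣ) : KStalk X y.1)) := by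
      rw [mul_mul_mul_comm, ← Units.val_mul, mul_inv_cancel_left]
    rw [e]
    exact h1⟩

theorem mulSec_apply {V : X.Opens} (t : Γ(divMod D, V)) (t' : Γ(divMod E, V)) (y : V) :
    (mulSec D E t t').1 y = t.1 y * t'.1 y := rfl

/-- The product as a bilinear map. -/
def mulBil (V : X.Opens) :
    Γ(divMod D, V) →ₗ[Γ(X, V)] Γ(divMod E, V) →ₗ[Γ(X, V)] Γ(divMod (D * E), V) :=
  LinearMap.mk₂ Γ(X, V) (fun t t' => mulSec D E t t')
    (fun _ _ _ => Subtype.ext (funext fun _ => add_mul _ _ _))
    (fun _ _ _ => Subtype.ext (funext fun _ => smul_mul_assoc _ _ _))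
    (fun _ _ _ => Subtype.ext (funext fun _ => mul_add _ _ _))
    (fun _ _ _ => Subtype.ext (funext fun _ => mul_smul_comm _ _ _))

/-- The product on the presheaf tensor product. -/
def mulPre : Props.GenTensor.pre (divMod D) (divMod E) ⟶
    (PresheafOfModules.restrictScalars (𝟙 X.ringCatSheaf.obj)).obj (divMod (D * E)).val :=
  PresheafOfModules.homMk
    { app := fun V => AddCommGrpCat.ofHom
        (TensorProduct.lift (mulBil D E V.unop)).toAddMonoidHom
      naturality := fun {V W} i => by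
        ext (z : Γ(divMod D, V.unop) ⊗[Γ(X, V.unop)] Γ(divMod E, V.unop))
        induction z using TensorProduct.induction_on with
        | zero => exact (map_zero _).trans (map_zero _).symm
        | tmul a b => rfl
        | add a b ha hb => exact (map_add _ a b).trans ((congrArg₂ (· + ·) ha hb).trans (map_add _ a b).symm) }
    (fun V r z => map_smul (TensorProduct.lift (mulBil D E V.unop)) (show Γ(X, V.unop) from r)
      (show Γ(divMod D, V.unop) ⊗[Γ(X, V.unop)] Γ(divMod E, V.unop) from z))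

/-- The multiplication morphism. -/
def mulHom : CohB1.tensorMod (divMod D) (divMod E) ⟶ divMod (D * E) :=
  ((PresheafOfModules.sheafificationAdjunction (𝟙 X.ringCatSheaf.obj)).homEquiv _ _).symm (mulPre D E)

theorem mulHom_tmul {V : X.Opens} (t : Γ(divMod D, V)) (t' : Γ(divMod E, V)) :
    (mulHom D E).app V (Props.GenTensor.tmul t t') = mulSec D E t t' := by
  have h : ((PresheafOfModules.sheafificationAdjunction (𝟙 X.ringCatSheaf.obj)).homEquiv _ _)
      (mulHom D E) = mulPre D E := Equiv.apply_symm_apply _ _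
  have h1 := congrArg (fun φ : Props.GenTensor.pre (divMod D) (divMod E) ⟶
      (PresheafOfModules.restrictScalars (𝟙 X.ringCatSheaf.obj)).obj (divMod (D * E)).val =>
      (φ.app (op V)).hom (show (Props.GenTensor.pre (divMod D) (divMod E)).obj (op V) from
        (t ⊗ₜ[Γ(X, V)] t' : Γ(divMod D, V) ⊗[Γ(X, V)] Γ(divMod E, V)))) h
  exact h1

theorem isIso_mulHom : IsIso (mulHom D E) := by
  refine LFFrame.isIso_of_locally_bijective _ fun x => ?_
  obtain ⟨U, hx, f, hf⟩ := exists_local D x
  obtain ⟨U', hx', f', hf'⟩ := exists_local E x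
  set W : X.Opens := U ⊓ U'
  let F : Γ(kmod X, W)ˣ := Units.map (kres (inf_le_left : W ≤ U)).toMonoidHom f *
    Units.map (kres (inf_le_right : W ≤ U')).toMonoidHom f'
  have hF : ∀ y : W, (D * E).1 y.1 = germOf F y := by
    intro y
    change D.1 y.1 * E.1 y.1 = _
    rw [hf ⟨y.1, y.2.1⟩, hf' ⟨y.1, y.2.2⟩]
    exact (QuotientGroup.mk_mul _ _ _).symm.trans (congrArg _ (Units.ext rfl))
  have he := (isGen_gen D f hf).restrict (inf_le_left : W ≤ U)
  have he' := (isGen_gen E f' hf').restrict (inf_le_right : W ≤ U')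
  refine ⟨W, ⟨hx, hx'⟩, fun V hV => ?_⟩
  have key : (mulHom D E).app V ∘
      Props.GenLocus.sm (Props.GenTensor.tmul (QCoh.res (divMod D) (inf_le_left : W ≤ U) (gen D f hf))
        (QCoh.res (divMod E) (inf_le_right : W ≤ U') (gen E f' hf'))) hV =
      Props.GenLocus.sm (gen (D * E) F hF) hV := by
    funext c
    simp only [Function.comp_apply, Props.GenLocus.sm]
    rw [Scheme.Modules.Hom.app_smul, Props.GenTensor.res_tmul, mulHom_tmul]
    congr 1
    refine Subtype.ext (funext fun y => ?_)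
    change (↑f⁻¹ : Γ(kmod X, U)).1 ⟨y.1, _⟩ * (↑f'⁻¹ : Γ(kmod X, U')).1 ⟨y.1, _⟩ =
      (↑F⁻¹ : Γ(kmod X, W)).1 ⟨y.1, hV y.2⟩
    simp only [F, mul_inv, Units.val_mul]
    rfl
  have h2 := isGen_gen (D * E) F hF V hV
  rw [← key] at h2
  exact (Function.Bijective.of_comp_iff _ (Props.GenTensor.isGen_tmul he he' V hV)).mp h2

end Groth.Agent.MeroDivMod

end
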