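import Groth.Agent.MeroDivMod.Basic

/-!
# Divisors and regular meromorphic sections of invertible modules
-/

set_option linter.style.haveILetI false

universe u

open CategoryTheory AlgebraicGeometry TopologicalSpace Opposite

namespace Groth.Agent.MeroDivMod

open _root_.Mero Groth.Agent.PullStalk.Sky

variable {X : Scheme.{u}} {L : X.Modules}

theorem mul_inv_apply {U : X.Opens} (f : Γ(kmod X, U)ˣ) (y : U) :
    (f : Γ(kmod X, U)).1 y * (↑f⁻¹ : Γ(kmod X, U)).1 y = 1 := by
  rw [← kmod_mul_apply, f.mul_inv, kmod_one_apply]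

theorem inv_mul_apply {U : X.Opens} (f : Γ(kmod X, U)ˣ) (y : U) :
    (↑f⁻¹ : Γ(kmod X, U)).1 y * (f : Γ(kmod X, U)).1 y = 1 := by
  rw [mul_comm, mul_inv_apply]

theorem eq_zero_of_mk_smul {U : X.Opens} {e : Γ(L, U)} (he : Props.GenLocus.IsGen L U e)
    {y : X} (hy : y ∈ U) (q : KStalk X y)
    (h : q • (LocalizedModule.mk (germM L U y hy e) 1 : MStalk L y) = 0) : q = 0 := by
  induction q using Localization.induction_on with
  | H p =>
    obtain ⟨r, t⟩ := p
    change (Localization.mk r t : KStalk X y) • _ = _ at h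
    rw [LocalizedModule.mk_smul_mk] at h
    obtain ⟨c, hc⟩ := LocalizedModule.mk_eq.mp (h.trans (LocalizedModule.zero_mk 1).symm)
    simp only [one_smul, smul_zero, Submonoid.smul_def, smul_smul] at hc
    refine (Groth.Agent.Mero.mk_eq_zero_iff r t).mpr ?_
    exact mem_nonZeroDivisors_iff_left.mp (regStalk_le_nonZeroDivisors y c.2) _
      ((MeroTotal.RegularSection.bijective_smul_germ he y hy).1
        (hc.trans (zero_smul (X.presheaf.stalk y) _).symm))

theorem mul_smul_eq {U : X.Opens} {e : Γ(L, U)} (he : Props.GenLocus.IsGen L U e)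
    {y : X} (hy : y ∈ U) {q q' : KStalk X y}
    (h : q • (LocalizedModule.mk (germM L U y hy e) 1 : MStalk L y) = q' • LocalizedModule.mk (germM L U y hy e) 1) :
    q = q' :=
  sub_eq_zero.mp (eq_zero_of_mk_smul he hy _ (by rw [sub_smul, h, sub_self]))

/-- A regular meromorphic section in a frame is a unit of `K_X`. -/
theorem exists_unit_coeff (hL : PicF.IsInvertible L) {s : Γ(merMod L, ⊤)} (hs : IsRegularMero L s)
    (x : X) :
    ∃ (U : X.Opens) (_ : x ∈ U) (e : Γ(L, U)), Props.GenLocus.IsGen L U e ∧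
      ∃ f : Γ(kmod X, U)ˣ, ∀ y : U, s.1 ⟨y.1, trivial⟩ =
        (f : Γ(kmod X, U)).1 y • (LocalizedModule.mk (germM L U y.1 y.2 e) 1 : MStalk L y.1) := by
  obtain ⟨W, hxW, i, m, b, w⟩ := s.2 ⟨x, trivial⟩
  obtain ⟨U₀, e₀, hxU₀, he₀⟩ := Props.GenLocus.exists_isGen hL x
  set U : X.Opens := W ⊓ U₀
  have he := he₀.restrict (inf_le_right : U ≤ U₀)
  obtain ⟨a, ha, -⟩ := he.exists_eq le_rfl (QCoh.res L (inf_le_left : U ≤ W) m)
  rw [QCoh.res_self] at ha
  let b' : regSub X U := ⟨X.presheaf.map (homOfLE (inf_le_left : U ≤ W)).op b.1, regSub_res _ b.2⟩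
  have hval : ∀ y : U, s.1 ⟨y.1, trivial⟩ =
      (LocalizedModule.mk (X.presheaf.germ U y.1 y.2 a) (regGerm y b') : KStalk X y.1) •
        (LocalizedModule.mk (germM L U y.1 y.2 (QCoh.res L inf_le_right e₀)) 1 : MStalk L y.1) := by
    intro y
    change _ = (Localization.mk (X.presheaf.germ U y.1 y.2 a) (regGerm y b')) • _
    rw [LocalizedModule.mk_smul_mk, mul_one, ← germM_smul, ← ha]
    refine (w ⟨y.1, y.2.1⟩).trans (mk_congr ?_ ?_)
    · exact (L.presheaf.germ_res_apply _ _ _ _).symm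
    · exact (X.presheaf.germ_res_apply _ _ _ _).symm
  have haR : a ∈ regSub X U := fun y => mem_nonZeroDivisors_iff_right.mpr fun r hr => by
    refine algebraMap_KStalk_injective y.1 ((hs y.1 (algebraMap _ _ r) ?_).trans (map_zero _).symm)
    rw [hval y, smul_smul, Groth.Agent.Mero.algebraMap_eq_mk,
      show (LocalizedModule.mk r 1 : KStalk X y.1) * LocalizedModule.mk (X.presheaf.germ U y.1 y.2 a) (regGerm y b') =
        LocalizedModule.mk (r * X.presheaf.germ U y.1 y.2 a) (1 * regGerm y b') from LocalizedModule.mk_mul_mk,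
      hr, LocalizedModule.zero_mk, zero_smul]
  refine ⟨U, ⟨hxW, hxU₀⟩, _, he, quot ⟨a, haR⟩ b', fun y => ?_⟩
  rw [quot_apply]
  exact hval y

/-- The divisor of a regular meromorphic section, with the isomorphism. -/
theorem exists_divisor_iso (hL : PicF.IsInvertible L) {s : Γ(merMod L, ⊤)} (hs : IsRegularMero L s) :
    ∃ D : Divisor X, IsDivOfMero L s D ∧ ∃ φ : L ≅ divMod D,
      ∀ (V : X.Opens) (m : Γ(L, V)) (y : V),
        ((φ.hom.app V m).1 y) • s.1 ⟨y.1, trivial⟩ =
          (LocalizedModule.mk (germM L V y.1 y.2 m) 1 : MStalk L y.1) := by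
  classical
  choose U hU e he f hf using exists_unit_coeff hL hs
  let g : ∀ y : X, (KStalk X y)ˣ := fun y =>
    Units.map (evalK X (U y) ⟨y, hU y⟩).toMonoidHom (f y)
  have hg : ∀ (x : X) (y : U x), (QuotientGroup.mk (g y.1) : Germ X y.1) = germOf (f x) y := by
    rintro x ⟨y, hy⟩
    obtain ⟨r, hr, hre⟩ := MeroTotal.RegularSection.isUnit_of_generates (he y) (he x) y (hU y) hy
    refine (QuotientGroup.eq.mpr (MonoidHom.mem_range.mpr ⟨hr.unit, Units.ext ?_⟩)).symm
    rw [Units.val_mul]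
    change algebraMap (X.presheaf.stalk y) (KStalk X y) (hr.unit : X.presheaf.stalk y) = _
    rw [IsUnit.unit_spec]
    have e1 : (g y : KStalk X y) • (LocalizedModule.mk (germM L (U y) y (hU y) (e y)) 1 : MStalk L y) =
        ((f x : Γ(kmod X, U x)).1 ⟨y, hy⟩ * algebraMap _ _ r) •
          LocalizedModule.mk (germM L (U y) y (hU y) (e y)) 1 := by
      rw [mul_smul, algebraMap_smul, LocalizedModule.smul'_mk, hre]
      exact (hf y ⟨y, hU y⟩).symm.trans (hf x ⟨y, hy⟩)
    rw [mul_smul_eq (he y) (hU y) e1]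
    change _ = _ * ((f x : Γ(kmod X, U x)).1 ⟨y, hy⟩ * _)
    rw [← mul_assoc]
    have : ((Units.map (evalK X (U x) ⟨y, hy⟩).toMonoidHom (f x))⁻¹ : (KStalk X y)ˣ).1 *
        (f x : Γ(kmod X, U x)).1 ⟨y, hy⟩ = 1 := Units.inv_mul _
    rw [this, one_mul]
  let D : Divisor X := ⟨fun y => QuotientGroup.mk (g y), fun x => ⟨U x, hU x, f x, hg x⟩⟩
  have hD : IsDivOfMero L s D := by
    intro y e' g' hspan hg'
    obtain ⟨r, hr⟩ := Submodule.span_singleton_le_iff_mem _ _ |>.mp (le_top.trans hspan.ge :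
      Submodule.span (X.presheaf.stalk y) {germM L (U y) y (hU y) (e y)} ≤ _) |>
      Submodule.mem_span_singleton.mp
    obtain ⟨r', hr'⟩ := (MeroTotal.RegularSection.bijective_smul_germ (he y) y (hU y)).2 e'
    dsimp only at hr'
    have hu : IsUnit r' := IsUnit.of_mul_eq_one r
      ((MeroTotal.RegularSection.bijective_smul_germ (he y) y (hU y)).1 (by
        change (r' * r) • germM L (U y) y (hU y) (e y) = (1 : X.presheaf.stalk y) • germM L (U y) y (hU y) (e y)
        rw [one_smul, mul_comm, mul_smul, hr', hr]))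
    refine (QuotientGroup.eq.mpr (MonoidHom.mem_range.mpr ⟨hu.unit, Units.ext ?_⟩)).symm
    rw [Units.val_mul]
    change algebraMap (X.presheaf.stalk y) (KStalk X y) (hu.unit : X.presheaf.stalk y) = _
    rw [IsUnit.unit_spec]
    have e1 : (g y : KStalk X y) • (LocalizedModule.mk (germM L (U y) y (hU y) (e y)) 1 : MStalk L y) =
        ((g' : KStalk X y) * algebraMap _ _ r') •
          LocalizedModule.mk (germM L (U y) y (hU y) (e y)) 1 := by
      rw [mul_smul, algebraMap_smul, LocalizedModule.smul'_mk, hr', ← hg']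
      exact (hf y ⟨y, hU y⟩).symm
    rw [mul_smul_eq (he y) (hU y) e1, ← mul_assoc, Units.inv_mul, one_mul]
  let coef : ∀ y : X, L.presheaf.stalk y → X.presheaf.stalk y := fun y t =>
    (Equiv.ofBijective _ (MeroTotal.RegularSection.bijective_smul_germ (he y) y (hU y))).symm t
  have hcoef : ∀ (y : X) (t : L.presheaf.stalk y), coef y t • germM L (U y) y (hU y) (e y) = t :=
    fun y t => Equiv.apply_symm_apply
      (Equiv.ofBijective _ (MeroTotal.RegularSection.bijective_smul_germ (he y) y (hU y))) t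
  let Φ : ∀ y : X, L.presheaf.stalk y → KStalk X y := fun y t =>
    algebraMap _ _ (coef y t) * ((g y)⁻¹ : (KStalk X y)ˣ).1
  have hΦ : ∀ (y : X) (t : L.presheaf.stalk y),
      Φ y t • s.1 ⟨y, trivial⟩ = (LocalizedModule.mk t 1 : MStalk L y) := by
    intro y t
    rw [hf y ⟨y, hU y⟩, smul_smul]
    change (algebraMap _ _ (coef y t) * ((g y)⁻¹ : (KStalk X y)ˣ).1 * (g y).1) • _ = _
    rw [mul_assoc, Units.inv_mul, mul_one, algebraMap_smul, LocalizedModule.smul'_mk, hcoef]
  have hinj : ∀ (y : X) (q q' : KStalk X y), q • s.1 ⟨y, trivial⟩ = q' • s.1 ⟨y, trivial⟩ → q = q' :=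
    fun y q q' h => sub_eq_zero.mp (hs y _ (by rw [sub_smul, h, sub_self]))
  have hloc : ∀ (x : X) (V : X.Opens) (hV : V ≤ U x) (c : Γ(X, V)) (y : V),
      Φ y.1 (germM L V y.1 y.2 (c • QCoh.res L hV (e x))) =
        (toK X V c * kres hV (↑(f x)⁻¹ : Γ(kmod X, U x))).1 y := by
    intro x V hV c y
    refine hinj y.1 _ _ ((hΦ _ _).trans ?_)
    rw [kmod_mul_apply, toK_apply, kres_apply, hf x ⟨y.1, hV y.2⟩, smul_smul, mul_assoc, ← kmod_mul_apply,
      (f x).inv_mul, kmod_one_apply, mul_one, ← Groth.Agent.Mero.algebraMap_eq_mk, algebraMap_smul,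
      LocalizedModule.smul'_mk, germM_smul]
    congr 2
    exact L.presheaf.germ_res_apply _ _ _ _
  have hpred : ∀ (V : X.Opens) (m : Γ(L, V)),
      (divLoc X D).pred fun y : V => Φ y.1 (germM L V y.1 y.2 m) := by
    intro V m
    refine ⟨fun x => ?_, fun y g' hg' => ?_⟩
    · obtain ⟨c, hc, -⟩ := (he x.1).exists_eq (inf_le_right : V ⊓ U x.1 ≤ U x.1)
        (QCoh.res L (inf_le_left : V ⊓ U x.1 ≤ V) m)
      let k : Γ(kmod X, V ⊓ U x.1) := toK X _ c * kres inf_le_right (↑(f x.1)⁻¹ : Γ(kmod X, U x.1))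
      obtain ⟨W, hxW, j, a, b, w⟩ := k.2 ⟨x.1, x.2, hU x.1⟩
      refine ⟨W, hxW, j ≫ homOfLE inf_le_left, a, b, fun y => ?_⟩
      refine Eq.trans ?_ (w y)
      change Φ y.1 (germM L V y.1 _ m) = k.1 ⟨y.1, j.le y.2⟩
      rw [← hloc x.1 _ inf_le_right c ⟨y.1, j.le y.2⟩, ← hc]
      congr 1
      exact (L.presheaf.germ_res_apply (homOfLE inf_le_left) y.1 (j.le y.2) m).symm
    · have hy : D.1 y.1 = germOf (f y.1) ⟨y.1, hU y.1⟩ := rfl
      refine (divCond_iff D (f y.1) ⟨y.1, hU y.1⟩ hy (Φ y.1 (germM L V y.1 y.2 m))).mpr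
        ⟨coef y.1 (germM L V y.1 y.2 m), ?_⟩ g' hg'
      change algebraMap _ _ _ = algebraMap _ _ _ * ((g y.1)⁻¹ : (KStalk X y.1)ˣ).1 * (g y.1).1
      rw [mul_assoc, Units.inv_mul, mul_one]
  let φ : L ⟶ divMod D := ⟨PresheafOfModules.homMk (M₁ := L.val) (M₂ := (divMod D).val)
    { app := fun V => AddCommGrpCat.ofHom
        { toFun := fun m : Γ(L, V.unop) =>
            (⟨fun y => Φ y.1 (germM L V.unop y.1 y.2 m), hpred V.unop m⟩ : Γ(divMod D, V.unop))
          map_zero' := Subtype.ext (funext fun y => hinj y.1 _ 0 (by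
            rw [hΦ, zero_smul]
            change LocalizedModule.mk (L.presheaf.germ V.unop y.1 y.2 0) 1 = 0
            rw [map_zero, LocalizedModule.zero_mk]))
          map_add' := fun m m' => Subtype.ext (funext fun y => hinj y.1 _ _ (by
            change Φ y.1 (L.presheaf.germ V.unop y.1 y.2 (m + m')) • _ =
              (Φ y.1 (germM L V.unop y.1 y.2 m) + Φ y.1 (germM L V.unop y.1 y.2 m')) • _
            rw [add_smul, hΦ, hΦ, hΦ, LocalizedModule.mk_add_mk]
            erw [map_add]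
            exact mk_congr (by simp only [one_smul]) (mul_one _).symm)) }
      naturality := fun {V V'} i => by
        ext m
        refine Subtype.ext (funext fun y => ?_)
        change Φ y.1 _ = Φ y.1 _
        exact congrArg (Φ y.1) (TopCat.Presheaf.germ_res_apply' L.presheaf i y.1 y.2 m) }
    (fun V c m => Subtype.ext (funext fun y => hinj y.1 _ _ (by
      change Φ y.1 (germM L V.unop y.1 y.2 (c • m)) • _ =
        (X.presheaf.germ V.unop y.1 y.2 c • Φ y.1 (germM L V.unop y.1 y.2 m)) • _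
      rw [smul_assoc, hΦ, hΦ, LocalizedModule.smul'_mk]
      exact mk_congr (germM_smul L _ _ _ _ _) rfl)))⟩
  have hiso : IsIso φ := by
    refine LFFrame.isIso_of_locally_bijective φ fun x => ⟨U x, hU x, fun V hV => ?_⟩
    have key : φ.app V ∘ Props.GenLocus.sm (e x) hV =
        Props.GenLocus.sm (gen D (f x) (hg x)) hV := by
      funext c
      refine Subtype.ext (funext fun y => ?_)
      refine (hloc x V hV c y).trans ?_
      rw [Props.GenLocus.sm, smul_res_gen_apply, kmod_mul_apply, kres_apply, toK_apply,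
        ← Groth.Agent.Mero.algebraMap_eq_mk]
    have h2 := isGen_gen D (f x) (hg x) V hV
    rw [← key] at h2
    exact (Function.Bijective.of_comp_iff _ (he x V hV)).mp h2
  exact ⟨D, hD, asIso φ, fun V m y => hΦ _ _⟩

/-- A module isomorphic to `O_X(D)` has a regular meromorphic section. -/
theorem hasRegularMero_of_iso (D : Divisor X) (φ : L ≅ divMod D) : HasRegularMero L := by
  classical
  choose U hU f hf using exists_local D
  let e : ∀ x, Γ(L, U x) := fun x => φ.inv.app (U x) (gen D (f x) (hf x))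
  have he : ∀ x, Props.GenLocus.IsGen L (U x) (e x) := by
    intro x V hV
    have key : Props.GenLocus.sm (e x) hV =
        φ.inv.app V ∘ Props.GenLocus.sm (gen D (f x) (hf x)) hV := funext fun c => by
      simp only [Function.comp_apply, Props.GenLocus.sm, e]
      rw [Scheme.Modules.Hom.app_smul, QCoh.app_res]
    rw [key]
    exact (ConcreteCategory.bijective_of_isIso (φ.inv.app V)).comp (isGen_gen D (f x) (hf x) V hV)
  let v : ∀ (x y : X), y ∈ U x → MStalk L y := fun x y hy =>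
    (f x : Γ(kmod X, U x)).1 ⟨y, hy⟩ • LocalizedModule.mk (germM L (U x) y hy (e x)) 1
  have hagree : ∀ (x x' y : X) (hy : y ∈ U x) (hy' : y ∈ U x'), v x y hy = v x' y hy' := by
    intro x x' y hy hy'
    obtain ⟨c, hc, -⟩ := (isGen_gen D (f x) (hf x)).exists_eq (inf_le_left : U x ⊓ U x' ≤ U x)
      (QCoh.res (divMod D) (inf_le_right : U x ⊓ U x' ≤ U x') (gen D (f x') (hf x')))
    have hy2 : y ∈ U x ⊓ U x' := ⟨hy, hy'⟩
    have h1 : (↑(f x')⁻¹ : Γ(kmod X, U x')).1 ⟨y, hy'⟩ =
        algebraMap _ _ (X.presheaf.germ _ y hy2 c) * (↑(f x)⁻¹ : Γ(kmod X, U x)).1 ⟨y, hy⟩ := by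
      have := congrArg (fun t : Γ(divMod D, U x ⊓ U x') => t.1 ⟨y, hy2⟩) hc
      simp only [smul_res_gen_apply] at this
      exact this
    have h2 : germM L (U x') y hy' (e x') =
        X.presheaf.germ _ y hy2 c • germM L (U x) y hy (e x) := by
      have := congrArg (fun t => germM L _ y hy2 (φ.inv.app _ t)) hc
      simp only [Scheme.Modules.Hom.app_smul, QCoh.app_res, germM_smul] at this
      rw [show germM L _ y hy2 (QCoh.res L (inf_le_right : U x ⊓ U x' ≤ U x') (φ.inv.app _ (gen D (f x') (hf x')))) =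
          germM L (U x') y hy' (e x') from L.presheaf.germ_res_apply _ _ _ _,
        show germM L _ y hy2 (QCoh.res L (inf_le_left : U x ⊓ U x' ≤ U x) (φ.inv.app _ (gen D (f x) (hf x)))) =
          germM L (U x) y hy (e x) from L.presheaf.germ_res_apply _ _ _ _] at this
      exact this
    simp only [v]
    rw [h2, ← LocalizedModule.smul'_mk, ← algebraMap_smul (KStalk X y) (X.presheaf.germ _ y hy2 c), smul_smul]
    congr 1
    have h3 := congrArg (fun t => (f x' : Γ(kmod X, U x')).1 ⟨y, hy'⟩ * t * (f x : Γ(kmod X, U x)).1 ⟨y, hy⟩) h1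
    erw [mul_inv_apply, one_mul] at h3
    rw [h3, mul_assoc, mul_assoc]
    erw [inv_mul_apply]
    rw [mul_one]
  refine ⟨⟨fun y => v y.1 y.1 (hU y.1), fun x => ?_⟩, fun y q hq => ?_⟩
  · obtain ⟨W, hxW, j, a, b, w⟩ := (f x.1 : Γ(kmod X, U x.1)).2 ⟨x.1, hU x.1⟩
    refine ⟨W, hxW, homOfLE le_top, a • QCoh.res L j.le (e x.1), b, fun y => ?_⟩
    change v y.1 y.1 (hU y.1) = _
    rw [hagree y.1 x.1 y.1 (hU y.1) (j.le y.2)]
    have hw : (f x.1 : Γ(kmod X, U x.1)).1 ⟨y.1, j.le y.2⟩ = _ := w y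
    simp only [v, hw]
    change (Localization.mk _ _) • _ = _
    rw [LocalizedModule.mk_smul_mk, mul_one]
    refine mk_congr ?_ rfl
    refine Eq.trans ?_ (germM_smul L W y.1 y.2 _ _).symm
    exact congrArg _ (L.presheaf.germ_res_apply _ _ _ _).symm
  · change q • v y y (hU y) = 0 at hq
    rw [smul_smul] at hq
    have h0 := eq_zero_of_mk_smul (he y) (hU y) _ hq
    have h4 := congrArg (· * (↑(f y)⁻¹ : Γ(kmod X, U y)).1 ⟨y, hU y⟩) h0
    simp only [zero_mul, mul_assoc] at h4
    erw [mul_inv_apply, mul_one] at h4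
    exact h4

end Groth.Agent.MeroDivMod
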