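import Groth.Agent.MeroDivMod.OfSection
import Groth.Agent.ZeroSchemeLib.Basic

/-!
# Divisors of nonzero sections on integral schemes
-/

set_option linter.style.haveILetI false

universe u

open CategoryTheory AlgebraicGeometry TopologicalSpace Opposite

noncomputable section

namespace Groth.Agent.MeroDivMod

open _root_.Mero Groth.Agent.PullStalk.Sky Groth.Agent.ZeroSchemeLib

variable {X : Scheme.{u}} {L : X.Modules}

theorem germ_sval (s : Coh.structureModule X ⟶ L) {U V : X.Opens} (y : X) (hU : y ∈ U) (hV : y ∈ V) :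
    germM L U y hU (sval s U) = germM L V y hV (sval s V) := by
  rw [← res_sval s (le_top : U ≤ ⊤), ← res_sval s (le_top : V ≤ ⊤)]
  exact (L.presheaf.germ_res_apply _ _ _ _).trans (L.presheaf.germ_res_apply _ _ _ _).symm

theorem structureHom_ext {s t : Coh.structureModule X ⟶ L} (h : sval s ⊤ = sval t ⊤) : s = t := by
  refine L.unitHomEquiv.injective (PresheafOfModules.sections_ext _ _ fun U => ?_)
  change sval s U.unop = sval t U.unop
  rw [← res_sval s (le_top : U.unop ≤ ⊤), ← res_sval t (le_top : U.unop ≤ ⊤), h]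

theorem mem_regSub_of_ne_zero [IsIntegral X] {U : X.Opens} [Nonempty U] {f : Γ(X, U)} (hf : f ≠ 0) :
    f ∈ regSub X U := fun y =>
  mem_nonZeroDivisors_of_ne_zero fun h =>
    hf (germ_injective_of_isIntegral X y.1 y.2 (h.trans (map_zero _).symm))

/-- In a frame a nonzero section of an invertible module has regular coordinate. -/
theorem exists_coord [IsIntegral X] (hL : PicF.IsInvertible L) {s : Coh.structureModule X ⟶ L}
    (hs : s ≠ 0) (x : X) :
    ∃ (V : X.affineOpens) (_ : x ∈ V.1) (e : Γ(L, V.1)), Props.GenLocus.IsGen L V.1 e ∧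
      ∃ f : Γ(X, V.1), f ∈ regSub X V.1 ∧ sval s V.1 = f • e := by
  have hnz : ∀ (W : X.Opens), Nonempty W → ∀ e : Γ(L, W), Props.GenLocus.IsGen L W e →
      sval s W ≠ 0 := by
    intro W hne e he h0
    refine hs (structureHom_ext ?_)
    have hz : sval (0 : Coh.structureModule X ⟶ L) ⊤ = 0 := rfl
    rw [hz]
    refine TopCat.Presheaf.section_ext ⟨_, L.isSheaf⟩ _ _ _ fun y _ => ?_
    change germM L ⊤ y trivial (sval s ⊤) = L.presheaf.germ ⊤ y trivial 0
    rw [map_zero]
    obtain ⟨U, e', hyU, he'⟩ := Props.GenLocus.exists_isGen hL y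
    rw [germ_sval s (U := ⊤) y trivial hyU]
    obtain ⟨c, hc, -⟩ := he'.exists_eq le_rfl (sval s U)
    obtain ⟨⟨w, hw⟩⟩ := hne
    have hηU : genericPoint X ∈ U := (genericPoint_specializes y).mem_open U.2 hyU
    have hηW : genericPoint X ∈ W := (genericPoint_specializes w).mem_open W.2 hw
    have h1 : X.presheaf.germ U (genericPoint X) hηU c • germM L U (genericPoint X) hηU e' =
        (0 : X.presheaf.stalk (genericPoint X)) • germM L U (genericPoint X) hηU e' := by
      rw [zero_smul, ← germM_smul, QCoh.res_self] at *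
      rw [← hc, germ_sval s (genericPoint X) hηU hηW, h0]
      exact map_zero (L.presheaf.germ W (genericPoint X) hηW).hom
    have h2 := (MeroTotal.RegularSection.bijective_smul_germ he' (genericPoint X) hηU).1 h1
    haveI : Nonempty U := ⟨⟨y, hyU⟩⟩
    have h3 : c = 0 := germ_injective_of_isIntegral X (genericPoint X) hηU (h2.trans (map_zero _).symm)
    rw [hc, h3, zero_smul]
    exact map_zero (L.presheaf.germ U y hyU).hom
  obtain ⟨U, e, hxU, he⟩ := Props.GenLocus.exists_isGen hL x
  obtain ⟨V, hxV, hle⟩ := IdealSh.Comap.exists_affine_le x U hxU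
  have he' := he.restrict hle
  obtain ⟨f, hf, -⟩ := he'.exists_eq le_rfl (sval s V.1)
  rw [QCoh.res_self] at hf
  haveI : Nonempty V.1 := ⟨⟨x, hxV⟩⟩
  refine ⟨V, hxV, _, he', f, mem_regSub_of_ne_zero fun h0 => ?_, hf⟩
  exact hnz V.1 inferInstance _ he' (by rw [hf, h0, zero_smul])

/-- A section as a meromorphic section. -/
def merSec (s : Coh.structureModule X ⟶ L) : Γ(merMod L, ⊤) := toMerFun L ⊤ (sval s ⊤)

theorem isRegularMero_merSec [IsIntegral X] (hL : PicF.IsInvertible L) {s : Coh.structureModule X ⟶ L}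
    (hs : s ≠ 0) : IsRegularMero L (merSec s) := by
  intro y q hq
  obtain ⟨V, hyV, e, he, f, hf, hsf⟩ := exists_coord hL hs y
  have e1 : (merSec s).1 ⟨y, trivial⟩ = algebraMap _ (KStalk X y) (X.presheaf.germ V.1 y hyV f) •
      (LocalizedModule.mk (germM L V.1 y hyV e) 1 : MStalk L y) := by
    rw [algebraMap_smul, LocalizedModule.smul'_mk, ← germM_smul, ← hsf]
    change LocalizedModule.mk (germM L ⊤ y trivial (sval s ⊤)) 1 = _
    rw [germ_sval s (U := ⊤) y trivial hyV]
  rw [e1, smul_smul] at hq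
  have h0 := eq_zero_of_mk_smul he hyV _ hq
  exact ((IsLocalization.map_units (KStalk X y) (regGerm ⟨y, hyV⟩ ⟨f, hf⟩)).mul_left_eq_zero).mp h0

end Groth.Agent.MeroDivMod

end
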